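import Groth.Agent.Lib.Gonflement.Main
import Groth.Agent.Lib.AdicExtra.Completion
import Groth.Agent.Lib.AdicFS.Complete
import Groth.Agent.S2454
import Groth.Agent.Lib.Ratliff.Completion

/-!
# Existence and uniqueness of Cohen algebras
-/

set_option autoImplicit false
set_option linter.style.haveILetI false
set_option backward.isDefEq.respectTransparency false
universe u

open IsLocalRing

namespace GrothLib.CohenAlg5

/-- A surjective endomorphism of a Noetherian ring is injective. -/
theorem injective_of_surjective_endomorphism {R : Type u} [CommRing R] [IsNoetherianRing R] (f : R →+* R)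
    (hf : Function.Surjective f) : Function.Injective f := by
  refine (injective_iff_map_eq_zero f).2 fun x hx => ?_
  have hcomm : ∀ (n : ℕ) (y : R), (f ^ (n + 1)) y = (f ^ n) (f y) := fun n y => by
    rw [pow_succ]; rfl
  have hsurj : ∀ n : ℕ, Function.Surjective (f ^ n : R →+* R) := fun n => by
    induction n with
    | zero => exact fun y => ⟨y, rfl⟩
    | succ n ih =>
      intro y
      obtain ⟨z, hz⟩ := ih y
      obtain ⟨w, rfl⟩ := hf z
      exact ⟨w, (hcomm n w).trans hz⟩
  let g : ℕ →o Ideal R :=
    ⟨fun n => RingHom.ker (f ^ n : R →+* R), monotone_nat_of_le_succ fun n y hy => by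
      rw [RingHom.mem_ker] at hy ⊢
      rw [pow_succ']
      show f ((f ^ n) y) = 0
      rw [hy, map_zero]⟩
  obtain ⟨n, hn⟩ := monotone_stabilizes_iff_noetherian.2 inferInstance g
  obtain ⟨y, rfl⟩ := hsurj n x
  have : y ∈ g (n + 1) := by
    show (f ^ (n + 1)) y = 0
    rw [pow_succ']
    exact hx
  rw [← hn (n + 1) n.le_succ] at this
  exact this

/-- A morphism to a complete algebra surjective modulo the extended maximal ideal is surjective. -/
theorem surjective_of_residue {A B C : Type u} [CommRing A] [CommRing B] [CommRing C] [Algebra A B] [Algebra A C]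
    (I : Ideal A) [IsPrecomplete (I.map (algebraMap A B)) B] [IsHausdorff (I.map (algebraMap A C)) C]
    (v : B →ₐ[A] C) (h : ∀ c : C, ∃ b, v b - c ∈ I.map (algebraMap A C)) : Function.Surjective v := by
  have hI : (I.map (algebraMap A B)).map v.toRingHom = I.map (algebraMap A C) := by
    rw [Ideal.map_map, AlgHom.toRingHom_eq_coe, v.comp_algebraMap]
  haveI : IsHausdorff ((I.map (algebraMap A B)).map v.toRingHom) C := by rw [hI]; infer_instance
  refine surjective_of_mk_map_comp_surjective (I := I.map (algebraMap A B)) v.toRingHom fun y => ?_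
  obtain ⟨c, rfl⟩ := Ideal.Quotient.mk_surjective y
  obtain ⟨b, hb⟩ := h c
  exact ⟨b, Ideal.Quotient.eq.2 (hI.symm ▸ hb)⟩

theorem exists_cohenAlgebra {A : Type u} [CommRing A] [IsLocalRing A] [IsNoetherianRing A]
    (K : Type u) [Field K] [Algebra (ResidueField A) K] [Algebra.IsGeometricallyReduced (ResidueField A) K] :
    ∃ (B : Type u) (_ : CommRing B) (_ : IsLocalRing B) (_ : Algebra A B) (_ : IsLocalHom (algebraMap A B)),
      EGA41.IsCohenAlgebra A B ∧ Nonempty (ResidueField B ≃ₐ[ResidueField A] K) := by
  obtain ⟨B₁, _, φ, ψ, hN, hL, hflat, hsurj, hker, hψφ⟩ := GrothLib.Gonflement.exists_flat_local (R := A) K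
  letI : Algebra A B₁ := φ.toAlgebra
  haveI : Module.Flat A B₁ := hflat
  have hm : maximalIdeal B₁ = (maximalIdeal A).map (algebraMap A B₁) :=
    (IsLocalRing.eq_maximalIdeal (RingHom.ker_isMaximal_of_surjective ψ hsurj)).symm.trans hker
  let C := AdicCompletion (maximalIdeal B₁) B₁
  haveI : IsNoetherianRing C := (GrothLib.Ratliff.isUniversallyCatenary_cpl (A := B₁)).1
  haveI : Module.Flat B₁ C := AdicCompletion.flat_of_isNoetherian _
  haveI : Module.Flat A C := Module.Flat.trans A B₁ C
  have hmC : (maximalIdeal A).map (algebraMap A C) = maximalIdeal C := by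
    rw [IsScalarTower.algebraMap_eq A B₁ C, ← Ideal.map_map, ← hm, AdicCompletion.maximalIdeal_eq_map]
  haveI : IsLocalHom (algebraMap A C) :=
    ((IsLocalRing.local_hom_TFAE (algebraMap A C)).out 0 2).2 hmC.le
  -- the residue field
  have hbij := AdicCompletion.residueField_map_bijective_of_fg (maximalIdeal B₁).fg_of_isNoetherianRing
  let e1 : ResidueField B₁ ≃+* K :=
    (Ideal.quotEquivOfEq (IsLocalRing.eq_maximalIdeal (RingHom.ker_isMaximal_of_surjective ψ hsurj)).symm).trans
      (RingHom.quotientKerEquivOfSurjective hsurj)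
  let e : ResidueField C ≃+* K := (RingEquiv.ofBijective _ hbij).symm.trans e1
  have he : ∀ a : A, e (residue C (algebraMap A C a)) = algebraMap (ResidueField A) K (residue A a) := fun a => by
    have h2 : residue C (algebraMap A C a) = RingEquiv.ofBijective _ hbij (residue B₁ (φ a)) := by
      rw [RingEquiv.ofBijective_apply, ResidueField.map_residue, IsScalarTower.algebraMap_apply A B₁ C]
      rfl
    show e1 ((RingEquiv.ofBijective _ hbij).symm (residue C (algebraMap A C a))) = _
    rw [h2, RingEquiv.symm_apply_apply]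
    show ψ (φ a) = _
    exact RingHom.congr_fun hψφ a
  let e' : ResidueField C ≃ₐ[ResidueField A] K := AlgEquiv.ofRingEquiv (f := e) fun x => by
    obtain ⟨a, rfl⟩ := residue_surjective x
    exact he a
  haveI : Algebra.IsGeometricallyReduced (ResidueField A) (ResidueField C) :=
    Algebra.IsGeometricallyReduced.of_injective e'.toAlgHom e'.injective
  exact ⟨C, inferInstance, inferInstance, inferInstance, inferInstance,
    ⟨inferInstance, inferInstance, inferInstance, inferInstance, hmC, inferInstance⟩, ⟨e'⟩⟩

/-- A lift of a given isomorphism of the residue fields. -/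
theorem exists_surjective_lift {A B C : Type u} [CommRing A] [IsLocalRing A] [CommRing B] [IsLocalRing B] [Algebra A B]
    [IsLocalHom (algebraMap A B)] [CommRing C] [IsLocalRing C] [Algebra A C] [IsLocalHom (algebraMap A C)]
    (hB : EGA41.IsCohenAlgebra A B) (hC : EGA41.IsCohenAlgebra A C)
    (σ : ResidueField B ≃ₐ[ResidueField A] ResidueField C) :
    ∃ v : B →ₐ[A] C, Function.Surjective v ∧ ∀ b, residue C (v b) = σ (residue B b) := by
  obtain ⟨-, -, hcB, -, hmB, -⟩ := id hB
  obtain ⟨-, -, hcC, -, hmC, -⟩ := id hC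
  haveI := hcC
  haveI := hcB
  have hfs := Groth.Agent.S2454.result hB
  let u : B →ₐ[A] C ⧸ maximalIdeal C :=
    { σ.toAlgHom.toRingHom.comp (residue B) with
      commutes' := fun a => by
        show σ (residue B (algebraMap A B a)) = _
        rw [show residue B (algebraMap A B a) = algebraMap (ResidueField A) (ResidueField B) (residue A a) from rfl,
          σ.commutes]
        rfl }
  have h0 : (maximalIdeal C).map (Ideal.Quotient.mk (maximalIdeal C)) = ⊥ := Ideal.map_quotient_self _
  haveI : IsHausdorff ((maximalIdeal C).map (Ideal.Quotient.mk (maximalIdeal C))) (C ⧸ maximalIdeal C) := by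
    rw [h0]; infer_instance
  obtain ⟨v, -, hv⟩ := GrothLib.AdicFS.exists_lift_adicComplete hfs (𝔠 := maximalIdeal C)
    ⟨1, by rw [pow_one, hmC]⟩ (J := maximalIdeal C) ⟨1, by rw [pow_one]⟩ u ⟨1, by
      rw [pow_one, h0, Ideal.map_le_iff_le_comap]
      intro b hb
      rw [Ideal.mem_comap, Ideal.mem_bot]
      show σ (residue B b) = 0
      rw [(residue_eq_zero_iff b).2 hb, map_zero]⟩
  have hres : ∀ b, residue C (v b) = σ (residue B b) := fun b => AlgHom.congr_fun hv b
  haveI : IsPrecomplete ((maximalIdeal A).map (algebraMap A B)) B := by rw [hmB]; infer_instance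
  haveI : IsHausdorff ((maximalIdeal A).map (algebraMap A C)) C := by rw [hmC]; infer_instance
  refine ⟨v, surjective_of_residue (maximalIdeal A) v fun c => ?_, hres⟩
  obtain ⟨b, hb⟩ := residue_surjective (σ.symm (residue C c))
  refine ⟨b, ?_⟩
  rw [hmC, ← residue_eq_zero_iff, map_sub, hres, hb, AlgEquiv.apply_symm_apply, sub_self]

/-- Two Cohen algebras with isomorphic residue fields are isomorphic. -/
theorem nonempty_algEquiv {A B C : Type u} [CommRing A] [IsLocalRing A] [CommRing B] [IsLocalRing B] [Algebra A B]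
    [IsLocalHom (algebraMap A B)] [CommRing C] [IsLocalRing C] [Algebra A C] [IsLocalHom (algebraMap A C)]
    (hB : EGA41.IsCohenAlgebra A B) (hC : EGA41.IsCohenAlgebra A C)
    (σ : ResidueField B ≃ₐ[ResidueField A] ResidueField C) : Nonempty (B ≃ₐ[A] C) := by
  obtain ⟨v, hv, -⟩ := exists_surjective_lift hB hC σ
  obtain ⟨w, hw, -⟩ := exists_surjective_lift hC hB σ.symm
  haveI : IsNoetherianRing B := hB.2.1
  have hinj := injective_of_surjective_endomorphism ((w.comp v).toRingHom) (hw.comp hv)
  exact ⟨AlgEquiv.ofBijective v ⟨fun x y h => hinj (congrArg w h), hv⟩⟩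

end GrothLib.CohenAlg5
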